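import Groth.Agent.S3030
import Groth.Agent.S5353
import Groth.Agent.SGA3.K206.Comm
import Groth.Agent.Sga7.H620.TorsCount
import Groth.Agent.Sga3C.GrpIrr
import Groth.Agent.TateLoc.K809.FieldSeq
import Groth.Agent.Desc.LQF
import Groth.Agent.Localalg.GrpSchComp2
import Mathlib.AlgebraicGeometry.Geometrically.Connected

/-!
# The connected-étale sequence of a commutative group scheme of finite type over a field (helper834)
-/

set_option autoImplicit false
universe u
open CategoryTheory MonoidalCategory CartesianMonoidalCategory MonObj GrpObj AlgebraicGeometry Limits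

namespace K834.PiZero

variable {k : Type u} [Field k]

theorem geometricallyConnected (G : Over (Spec (CommRingCat.of k))) [GrpObj G] [LocallyOfFiniteType G.hom]
    [ConnectedSpace G.left] : GeometricallyConnected G.hom := by
  have : GrpObj (Over.mk G.hom) := ‹GrpObj G›
  have : GeometricallyIrreducible G.hom :=
    Groth.Agent.Sga3C.GrpIrr.geometricallyIrreducible_of_connectedSpace (k := k) G.hom
  constructor
  intro K _ y Z fst snd h
  have : IrreducibleSpace Z := GeometricallyIrreducible.geometrically_irreducibleSpace (f := G.hom) y fst snd h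
  infer_instance

/-- The sequence `0 → G⁰ → G → π₀(G) → 0`. -/
theorem exists_seq (G : Over (Spec (CommRingCat.of k))) [GrpObj G] [IsCommMonObj G] [LocallyOfFiniteType G.hom]
    [QuasiCompact G.hom] :
    ∃ (G0 E : Over (Spec (CommRingCat.of k))) (_ : GrpObj G0) (_ : IsCommMonObj G0) (_ : GrpObj E) (_ : IsCommMonObj E)
      (i : G0 ⟶ G) (p : G ⟶ E) (_ : IsMonHom i) (_ : IsMonHom p), AlgGrp.IsKernel i p ∧ Flat p.left ∧
      Surjective p.left ∧ IsOpenImmersion i.left ∧ IsClosedImmersion i.left ∧ GeometricallyConnected G0.hom ∧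
      IsFinite E.hom ∧ Etale E.hom := by
  obtain ⟨G0, g0, i, hi, h1, h2, h3, h4, h5⟩ := K206.Comm.exists_neutral G
  have hm : Mono i := Over.mono_of_mono_left _
  have hc : IsCommMonObj G0 := K267.DeligneSch.isCommMonObj_of_iso i
  have hlft : LocallyOfFiniteType G0.hom := by
    rw [← Over.w i]
    infer_instance
  obtain ⟨E, gE, p, hp, hf, hs, hl, hk, hsep, -, -⟩ := Groth.Agent.S3030.result k G0 G i
    (Groth.Agent.Sga7.H620.TorsCount.isNormalHom_of_comm i)
  let pt : ↥(𝟙_ (Over (Spec (CommRingCat.of k)))).left := IsLocalRing.closedPoint k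
  have hE : Etale E.hom := Groth.Agent.S5353.result k G0 G E i pt (h5 pt) p hk
  have hcs : CompactSpace G.left := HasAffineProperty.iff_of_isAffine (P := @QuasiCompact).1 ‹_›
  have hce : CompactSpace E.left := by
    refine ⟨?_⟩
    have := isCompact_range p.left.continuous
    rwa [Set.range_eq_univ.2 hs.surj] at this
  have hqc : QuasiCompact E.hom := HasAffineProperty.iff_of_isAffine (P := @QuasiCompact).2 hce
  have hlqf : LocallyQuasiFinite E.hom := Groth.Agent.Desc.LQF.of_etale E.hom
  have hfin : IsFinite E.hom := IsFinite.of_locallyQuasiFinite E.hom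
  have hqp : QuasiCompact p.left := by
    have : QuasiCompact (p.left ≫ E.hom) := by rw [Over.w]; infer_instance
    exact QuasiCompact.of_comp p.left E.hom
  have hcE : IsCommMonObj E := by
    have h2f : Flat (p ⊗ₘ p).left := K404.Desc.tensorHom_left_of (@Flat) p p ‹_› ‹_›
    have h2s : Surjective (p ⊗ₘ p).left := K404.Desc.tensorHom_left_of (@Surjective) p p ‹_› ‹_›
    have h2c : QuasiCompact (p ⊗ₘ p).left :=
      K404.Desc.tensorHom_left_of (@QuasiCompact) p p inferInstance inferInstance
    have := K404.Desc.epi_of (p ⊗ₘ p)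
    exact K809.FieldSeq.isCommMonObj_of_epi p
  exact ⟨G0, E, g0, hc, gE, hcE, i, p, hi, hp, hk, hf, hs, h2, h1, geometricallyConnected G0, hfin, hE⟩

/-- The structure of commutative group schemes of finite type over a field. -/
theorem exists_str (G : Over (Spec (CommRingCat.of k))) [GrpObj G] [IsCommMonObj G] [LocallyOfFiniteType G.hom]
    [QuasiCompact G.hom] :
    ∃ (N Q G0 E : Over (Spec (CommRingCat.of k))) (_ : GrpObj N) (_ : IsCommMonObj N) (_ : GrpObj Q)
      (_ : IsCommMonObj Q) (_ : GrpObj G0) (_ : IsCommMonObj G0) (_ : GrpObj E) (_ : IsCommMonObj E)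
      (u : N ⟶ G) (v : G ⟶ Q) (i : G0 ⟶ Q) (p : Q ⟶ E)
      (_ : IsMonHom u) (_ : IsMonHom v) (_ : IsMonHom i) (_ : IsMonHom p),
      AlgGrp.IsKernel u v ∧ Flat v.left ∧ Surjective v.left ∧ AlgGrp.IsKernel i p ∧ Flat p.left ∧ Surjective p.left ∧
      IsFinite N.hom ∧ Smooth Q.hom ∧ QuasiCompact Q.hom ∧ IsSeparated Q.hom ∧
      Smooth G0.hom ∧ QuasiCompact G0.hom ∧ IsSeparated G0.hom ∧ GeometricallyConnected G0.hom ∧ IsFinite E.hom := by
  obtain ⟨N, Q, gN, cN, gQ, cQ, u, v, hu, hv, w, hk, f1, f2, f3, f4, f5, f6, f7, f8, f9, f10, -⟩ :=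
    K809.FieldSeq.exists_seq G
  have hqc : QuasiCompact Q.hom := f6 inferInstance
  obtain ⟨G0, E, gG, cG, gE, cE, i, p, hi, hp, hk', e1, e2, e3, e4, e5, e6, e7⟩ := exists_seq Q
  have h1 : Smooth G0.hom := by
    rw [← Over.w i]
    infer_instance
  have h2 : QuasiCompact G0.hom := by
    rw [← Over.w i]
    infer_instance
  exact ⟨N, Q, G0, E, gN, cN, gQ, cQ, gG, cG, gE, cE, u, v, i, p, hu, hv, hi, hp, hk, f9, f8, hk', e1, e2, f1, f5, hqc,
    Groth.Agent.Localalg.GrpSchComp2.isSeparated_hom Q, h1, h2, Groth.Agent.Localalg.GrpSchComp2.isSeparated_hom G0,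
    e5, e6⟩

end K834.PiZero
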