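import Groth.Agent.TateGlob.K775.Emb
import Groth.Agent.FunFld.K659.ResFin
import Groth.Agent.TateGlob.K829.FunBase

/-!
# The residue field of `O_v` is finite (helper834)
-/

set_option autoImplicit false
universe u

namespace K834.ResFin

open FunFld AdFn

variable {k K : Type u} [Field k] [Field K] [Algebra k K] (v : Place k K)

/-- `O ⊆ O_v`. -/
noncomputable def f : v.O →+* Ov v :=
  ((toKv v).comp v.O.subtype).codRestrict (Ov v).toSubring fun x => (toKv_mem_Ov v (x : K)).2 x.2

theorem f_val (x : v.O) : ((f v x : Ov v) : Kv v) = toKv v (x : K) := rfl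

theorem mem_max (x : v.O) : x ∈ IsLocalRing.maximalIdeal v.O ↔ v.1 (x : K) < 1 :=
  (Valuation.mem_maximalIdeal_iff (v := v.1)).trans Iff.rfl

theorem mem_max' (x : Ov v) : x ∈ IsLocalRing.maximalIdeal (Ov v) ↔ Valued.v (x : Kv v) < 1 :=
  (Valuation.mem_maximalIdeal_iff (v := (Valued.v : Valuation (Kv v) (WithZero (Multiplicative ℤ))))).trans Iff.rfl

instance : IsLocalHom (f v) := by
  refine ⟨fun a ha => ?_⟩
  by_contra hna
  have h1 : v.1 (a : K) < 1 := (mem_max v a).1 ((IsLocalRing.mem_maximalIdeal a).2 hna)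
  have h2 : f v a ∈ IsLocalRing.maximalIdeal (Ov v) := by
    rw [mem_max', f_val, valued_toKv]
    exact h1
  exact (IsLocalRing.mem_maximalIdeal _).1 h2 ha

theorem map_surjective : Function.Surjective (IsLocalRing.ResidueField.map (f v)) := by
  intro y
  obtain ⟨x, rfl⟩ := IsLocalRing.residue_surjective y
  obtain ⟨z, hz⟩ := K775.Emb.exists_close v (x : Kv v) (γ := 1) one_ne_zero
  have hz1 : v.1 z ≤ 1 := by
    rw [← valued_toKv]
    have : toKv v z = (x : Kv v) - ((x : Kv v) - toKv v z) := by ring
    rw [this]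
    exact (Valuation.map_sub _ _ _).trans (max_le x.2 hz.le)
  refine ⟨IsLocalRing.residue _ ⟨z, hz1⟩, ?_⟩
  rw [IsLocalRing.ResidueField.map_residue, ← sub_eq_zero, ← map_sub, IsLocalRing.residue_eq_zero_iff, mem_max']
  change Valued.v (toKv v z - (x : Kv v)) < 1
  rw [Valuation.map_sub_swap]
  exact hz

/-- The residue field of `O_v` is finite. -/
theorem finite [Finite k] {x : K} (h : K660.Places.IsGen k K x) : Finite (IsLocalRing.ResidueField (Ov v)) := by
  have h1 : Module.Finite k (IsLocalRing.ResidueField v.O) :=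
    K659.ResFin.IsGen.finite_residueField h v
  have h2 : Finite (IsLocalRing.ResidueField v.O) := Module.finite_of_finite k
  exact Finite.of_surjective _ (map_surjective v)

/-- The residue field of `O_v` is finite. -/
theorem finite_residueField (Fq : Type u) [Field Fq] [Finite Fq] (K : Type u) [Field K] [Algebra (RatFunc Fq) K]
    [FunctionField Fq K] [Algebra Fq K] [IsScalarTower Fq (RatFunc Fq) K] (v : Place Fq K) :
    Finite (IsLocalRing.ResidueField (Ov v)) := finite v (K829.FunBase.isGen Fq K)

end K834.ResFin
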