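import Groth.Agent.TateGlob.K834.StrMdl
import Groth.Agent.TateGlob.K834.PiZero
import Groth.Agent.TateGlob.K834.ResFin
import Groth.Agent.TateGlob.K620.ModS
import Groth.Agent.TateGlob.K829.OvHens

/-!
# Models over the rings of `S`-integers of a global function field (helper834)
-/

set_option autoImplicit false
universe u
open CategoryTheory CategoryTheory.Limits MonoidalCategory CartesianMonoidalCategory MonObj GrpObj AlgebraicGeometry
open FunFld

namespace K834.Main

open K620.GMod K620.Sys K834.Str K834.StrMdl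

section fieldStr

variable {K : Type u} [Field K]

theorem fsp_field (X : Over (Spec (CommRingCat.of K))) (h1 : LocallyOfFiniteType X.hom) (h2 : IsSeparated X.hom)
    (h3 : QuasiCompact X.hom) : Fsp X :=
  ⟨inferInstance, h2, inferInstance, h3⟩

/-- Commutative group schemes of finite type over a field are structured. -/
theorem isStr_field (G : Over (Spec (CommRingCat.of K))) [GrpObj G] [IsCommMonObj G] [LocallyOfFiniteType G.hom]
    [QuasiCompact G.hom] : IsStr G := by
  obtain ⟨N, Q, G0, E, _, _, _, _, _, _, _, _, u, v, i, p, _, _, _, _, h1, h2, h3, h4, h5, h6, h7, h8, h9, h10, h11, h12,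
    h13, h14, h15⟩ := K834.PiZero.exists_str G
  have l1 : LocallyOfFinitePresentation v.left := by
    have : LocallyOfFinitePresentation (v.left ≫ Q.hom) := by rw [Over.w]; infer_instance
    exact Groth.Agent.Flat2E.Thick.locallyOfFinitePresentation_of_comp _ Q.hom
  have l2 : LocallyOfFinitePresentation p.left := by
    have : LocallyOfFinitePresentation (p.left ≫ E.hom) := by rw [Over.w]; infer_instance
    exact Groth.Agent.Flat2E.Thick.locallyOfFinitePresentation_of_comp _ E.hom
  exact ⟨N, Q, G0, E, inferInstance, inferInstance, inferInstance, inferInstance, inferInstance, inferInstance,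
    inferInstance, inferInstance, u, v, i, p, inferInstance, inferInstance, inferInstance, inferInstance,
    ⟨h1, h2, h3, l1⟩, ⟨h4, h5, h6, l2⟩, fsp_field N inferInstance inferInstance inferInstance,
    fsp_field Q inferInstance h10 h9, fsp_field G0 inferInstance h13 h12,
    fsp_field E inferInstance inferInstance inferInstance, h7, h15, h11, h14⟩

end fieldStr

section sys

variable {k K : Type u} [Field k] [Field K] [Algebra k K]

theorem isNoetherian_D {x : K} (h : K660.Places.IsGen k K x) (i : (Idx k K)ᵒᵖ) :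
    AlgebraicGeometry.IsNoetherian ((D k K).obj i) := by
  have h1 : IsDedekindDomain (AdFn.SInt i.unop.1) := (K829.SIntBase.isDedekind h i.unop.2.1 i.unop.2.2).1
  have h2 : IsNoetherianRing (CommRingCat.of (AdFn.SInt i.unop.1)) := inferInstanceAs (IsNoetherianRing (AdFn.SInt i.unop.1))
  exact inferInstanceAs (AlgebraicGeometry.IsNoetherian (Spec (CommRingCat.of (AdFn.SInt i.unop.1))))

/-- Every model of a commutative group of finite type is structured after enlarging `S`. -/
theorem exists_isStrS {x : K} (h : K660.Places.IsGen k K x) {S : Set (Place k K)} (hS : S.Finite) (hne : S.Nonempty)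
    {G : Over (Spec (CommRingCat.of K))} [GrpObj G] [IsCommMonObj G] [LocallyOfFiniteType G.hom] [QuasiCompact G.hom]
    (M : MdlS S G) :
    ∃ (T : Set (Place k K)) (_ : T.Finite) (h : S ⊆ T), ∀ {U : Set (Place k K)} (h' : T ⊆ U),
      IsStr (M.enl (h.trans h')).X := by
  have := finPoles_of_isGen h
  have := isNoetherian_D (k := k) (K := K) h
  obtain ⟨j, f, hj⟩ := ev_isStr (isLimit k K) (i := idx hS hne) M (isStr_field G)
  refine ⟨j.unop.1, j.unop.2.1, idx_le f, fun {U} h' => ?_⟩
  have h1 : IsStr (M.enl (idx_le f)).X := by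
    have := hj (𝟙 j)
    rw [Category.id_comp] at this
    exact this
  exact isStr_of_eqv (eqv_enl_enl M (idx_le f) h') (h1.bc (inclS h'))

end sys

section rows

variable (Fq : Type u) [Field Fq] [Finite Fq] (K : Type u) [Field K] [Algebra (RatFunc Fq) K] [FunctionField Fq K]
    [Algebra Fq K] [IsScalarTower Fq (RatFunc Fq) K]

variable {Fq K} in
/-- Structured groups over `O_S` are good for `∏ O_v`. -/
theorem good (S : Set (Place Fq K)) (X : Over (Spec (CommRingCat.of (AdFn.SInt S)))) [GrpObj X] [IsCommMonObj X]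
    (h : IsStr X) :
    Dev.Good (K828.BigCoh.bigCoh Scheme.fppfPrecoverage (Spec (CommRingCat.of (AdFn.SInt S))))
      (K827.ProdTor.eP (fun v : {v : Place Fq K // v ∉ S} => AdFn.Ov v.1) (fun v => AdFn.SInt.toOv S v.2))
      (CGrpSh.pts Scheme.fppfPrecoverage X) := by
  have h1 : ∀ v : {v : Place Fq K // v ∉ S}, HenselianLocalRing (AdFn.Ov v.1) := fun v => K829.OvHens.henselian v.1
  have h2 : ∀ v : {v : Place Fq K // v ∉ S}, Finite (IsLocalRing.ResidueField (AdFn.Ov v.1)) :=
    fun v => K834.ResFin.finite_residueField Fq K v.1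
  exact h.good (fun v : {v : Place Fq K // v ∉ S} => AdFn.Ov v.1) (fun v => AdFn.SInt.toOv S v.2)

omit [Finite Fq] in
/-- Existence of structured models. -/
theorem exists_model (G : Over (Spec (CommRingCat.of K))) [GrpObj G] [IsCommMonObj G] [LocallyOfFiniteType G.hom]
    [QuasiCompact G.hom] :
    ∃ (S : Set (Place Fq K)) (_ : S.Finite) (_ : S.Nonempty)
      (𝒢 : Over (Spec (CommRingCat.of (AdFn.SInt S)))) (_ : GrpObj 𝒢) (_ : IsCommMonObj 𝒢),
      Flat 𝒢.hom ∧ IsSeparated 𝒢.hom ∧ LocallyOfFiniteType 𝒢.hom ∧ QuasiCompact 𝒢.hom ∧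
      Nonempty (AdFn.ModelIso Scheme.fppfPrecoverage S 𝒢 G) ∧ IsStr 𝒢 := by
  have h := K829.FunBase.isGen Fq K
  have := finPoles_of_isGen h
  have := Groth.Agent.Localalg.GrpSchComp2.isSeparated_hom G
  obtain ⟨S, hS, hne, -, ⟨M⟩⟩ := exists_mdlS (k := Fq) G (S₀ := ∅) Set.finite_empty
  obtain ⟨T, hT, hST, hstr⟩ := exists_isStrS h hS hne M
  have h1 := hstr (Set.Subset.refl T)
  let M' := M.enl (hST.trans (Set.Subset.refl T))
  exact ⟨T, hT, hne.mono hST, M'.X, M'.grp, M'.comm, M'.flat, M'.sep, inferInstance, M'.qc,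
    ⟨modelIso _ M'⟩, h1⟩

end rows

end K834.Main
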