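import Groth.Agent.TateGlob.K834.UnitConn
import Groth.Agent.TateLoc.K809.UnitSch
import Groth.Agent.TateLoc.K809.QuotFin
import Groth.Agent.TateLoc.K809.SeqExact
import Groth.Agent.S0115

/-!
# Finite locally free commutative group schemes in smooth affine group schemes with connected fibres (helper834)
-/

set_option autoImplicit false
universe u

open WithConv TensorProduct Coalgebra
open CategoryTheory CategoryTheory.Limits MonoidalCategory CartesianMonoidalCategory MonObj GrpObj AlgebraicGeometry Opposite

namespace K834.EmbConn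

open K809.UnitAlg K809.UnitGrp K809.UnitSch

attribute [local instance] Functor.grpObjObj

theorem exists_emb_spec (R : CommRingCat.{u}) (H : Type u) [CommRing H] [HopfAlgebra R H] [IsCocomm R H]
    [Module.Finite R H] [Module.Projective R H] :
    ∃ (A : Over (Spec R)) (_ : GrpObj A) (_ : IsCommMonObj A)
      (v : (algSpec R).obj (op (CommAlgCat.of R H)) ⟶ A) (_ : IsMonHom v),
      Mono v ∧ Smooth A.hom ∧ IsAffine A.left ∧ GeometricallyConnected A.hom := by
  let A : Over (Spec R) := (algSpec R).obj (Ao R H)
  let g : GrpObj A := Functor.grpObjObj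
  have hc : IsCommMonObj A := inferInstance
  let v : (algSpec R).obj (op (CommAlgCat.of R H)) ⟶ A := (algSpec R).map (emb R H)
  have hv : IsMonHom v := inferInstance
  have hm : Mono v := inferInstance
  refine ⟨A, g, hc, v, hv, hm, ?_, ?_, ?_⟩
  · change Smooth (Spec.map (CommRingCat.ofHom (algebraMap R (B R H))))
    rw [HasRingHomProperty.Spec_iff (P := @Smooth)]
    exact RingHom.smooth_algebraMap.2 (smooth_B (R := R) (H := H))
  · change IsAffine (Spec (CommRingCat.of (B R H)))
    infer_instance
  · exact K834.UnitConn.geometricallyConnected R H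

/-- A finite locally free commutative group scheme over an affine scheme is a subgroup of a smooth affine commutative
group scheme with geometrically connected fibres. -/
theorem exists_emb (R : CommRingCat.{u}) (I : Over (Spec R)) [GrpObj I] [IsCommMonObj I] [IsFinite I.hom] [Flat I.hom]
    [LocallyOfFinitePresentation I.hom] :
    ∃ (A : Over (Spec R)) (_ : GrpObj A) (_ : IsCommMonObj A) (v : I ⟶ A) (_ : IsMonHom v),
      Mono v ∧ Smooth A.hom ∧ IsAffine A.left ∧ GeometricallyConnected A.hom := by
  have : IsAffine I.left := isAffine_of_isAffineHom I.hom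
  have h2 : (hopfSpec R).essImage (Grp.mk I) := essImage_hopfSpec.2 this
  obtain ⟨C, ⟨e⟩⟩ := h2
  let C' : Type u := C.unop
  let I' : Over (Spec R) := (Spec (CommRingCat.of C')).asOver (Spec R)
  let i : I' ≅ I := (Grp.forget _).mapIso e
  have hi : IsMonHom i.hom := inferInstanceAs (IsMonHom (e.hom.hom.hom))
  have hi' : IsMonHom i.inv := inferInstanceAs (IsMonHom (e.inv.hom.hom))
  have hil : IsIso i.hom.left := inferInstanceAs (IsIso ((Over.forget _).map i.hom))
  have hc : IsCommMonObj I' := K267.DeligneSch.isCommMonObj_of_iso i.hom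
  have hil' : IsIso (X := Spec (CommRingCat.of C')) i.hom.left := hil
  have hcc : Coalgebra.IsCocomm R C' := K267.DeligneSch.isCocomm_of_isCommMonObj hc
  obtain ⟨hfin, hproj⟩ := data_of_iso (R := R) (C := C') I.hom i.hom.left (Over.w i.hom)
  obtain ⟨A, g, hA, v, hv, hm, hs, ha, hcon⟩ := exists_emb_spec R C'
  let v' : I' ⟶ A := v
  have hv' : IsMonHom v' := hv
  have hm' : Mono v' := hm
  let w : I ⟶ A := i.inv ≫ v'
  have hw1 : IsMonHom w := inferInstanceAs (IsMonHom (i.inv ≫ v'))
  have hw2 : Mono w := mono_comp i.inv v'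
  exact ⟨A, g, hA, w, hw1, hw2, hs, ha, hcon⟩

/-- Images of geometrically connected schemes. -/
theorem geomConn_of_surjective {X Y S : Scheme.{u}} (f : X ⟶ Y) (g : Y ⟶ S) [Surjective f]
    (h : GeometricallyConnected (f ≫ g)) : GeometricallyConnected g := by
  rw [GeometricallyConnected.eq_geometrically] at h ⊢
  have : ObjectProperty.IsClosedUnderIsomorphisms (fun X : Scheme.{u} => ConnectedSpace X) := inferInstance
  rw [geometrically_iff_of_isClosedUnderIsomorphisms] at h ⊢
  intro k _ y
  have h1 : ConnectedSpace ↥(pullback (f ≫ g) y) := h k y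
  let p : pullback (f ≫ g) y ⟶ pullback g y := pullback.lift (pullback.fst _ _ ≫ f) (pullback.snd _ _)
    (by rw [Category.assoc, pullback.condition])
  have hsnd : p ≫ pullback.snd g y = pullback.snd (f ≫ g) y := pullback.lift_snd _ _ _
  have sq : IsPullback (pullback.fst (f ≫ g) y) p f (pullback.fst g y) := by
    refine IsPullback.of_bot ?_ (pullback.lift_fst _ _ _).symm (IsPullback.of_hasPullback g y)
    rw [hsnd]
    exact IsPullback.of_hasPullback _ _
  have hp : Surjective p := MorphismProperty.of_isPullback (P := @Surjective) sq ‹_›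
  exact hp.surj.connectedSpace p.continuous

/-- Resolution of a finite locally free commutative group scheme by smooth affine ones with connected fibres. -/
theorem exists_seq (R : CommRingCat.{u}) (I : Over (Spec R)) [GrpObj I] [IsCommMonObj I] [IsFinite I.hom] [Flat I.hom]
    [LocallyOfFinitePresentation I.hom] :
    ∃ (A M : Over (Spec R)) (_ : GrpObj A) (_ : IsCommMonObj A) (_ : GrpObj M) (_ : IsCommMonObj M)
      (v : I ⟶ A) (_ : IsMonHom v) (q : A ⟶ M) (_ : IsMonHom q) (w : v ≫ q = 1),
      Smooth A.hom ∧ IsAffine A.left ∧ GeometricallyConnected A.hom ∧ Smooth M.hom ∧ IsAffine M.left ∧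
      GeometricallyConnected M.hom ∧ (CGrpSh.seq Scheme.fppfPrecoverage v q w).ShortExact := by
  obtain ⟨A, gA, cA, v, hv, hm, hs, ha, hcon⟩ := exists_emb R I
  have hA : IsAffineHom A.hom := inferInstance
  obtain ⟨M, gM, cM, q, hq, hfin, hsur, haM, hk, -⟩ :=
    K809.QuotFin.exists_quot (I := I) (G := A) v ⟨‹_›, ‹_›, ‹_›⟩ hA
  have hM : IsAffine M.left := haM ha
  obtain ⟨q1, q2, q3⟩ := hfin
  have hM' : IsAffineHom M.hom := inferInstance
  have hw : q.left ≫ M.hom = A.hom := Over.w q
  have hsm : Smooth M.hom := by
    have : Smooth (q.left ≫ M.hom) := by rw [hw]; exact hs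
    exact Groth.Agent.S0115.result q.left M.hom
  have hMc : GeometricallyConnected M.hom := by
    have : GeometricallyConnected (q.left ≫ M.hom) := by rw [hw]; exact hcon
    exact geomConn_of_surjective q.left M.hom this
  have w : v ≫ q = 1 := by
    have := hk.w
    rw [this]
    rfl
  exact ⟨A, M, gA, cA, gM, cM, v, hv, q, hq, w, hs, ha, hcon, hsm, hM, hMc, K809.SeqExact.shortExact v q w hk⟩

end K834.EmbConn
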