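import Groth.Agent.TateGlob.K834.Dev
import Groth.Agent.TateGlob.K834.EmbConn
import Groth.Agent.TateGlob.K828.Vanish2
import Groth.Agent.TateGlob.K827.ProdTor
import Groth.Agent.TateGlob.K827.Pts
import Groth.Agent.TateGlob.K827.PtsH0

/-!
# Cohomology of products of henselian local rings with finite residue fields (helper834)

`O` a ring, `(A i)` henselian local `O`-algebras with finite residue fields, `T = Spec ∏ A i`, `T_i = Spec (A i)`.

* `subsingleton_pi`, `subsingleton_one`: `H^n(T, N) = 0` for `n > 1`, `N` finite locally free commutative over `O`;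
* `good_fin`, `good_smooth`: `Dev.Good` for finite locally free groups and for smooth separated groups with
  geometrically connected fibres.
-/

set_option autoImplicit false
set_option linter.unusedSectionVars false
universe u

open CategoryTheory CategoryTheory.Limits MonoidalCategory CartesianMonoidalCategory MonObj AlgebraicGeometry Opposite
open IsLocalRing K828 K828.BigCoh K827.ProdTor

namespace K834.FinVan

variable {O : Type u} [CommRing O] {I : Type u} (A : I → Type u) [∀ i, CommRing (A i)]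
  [∀ i, HenselianLocalRing (A i)] [∀ i, Finite (ResidueField (A i))] (ψ : ∀ i, O →+* A i)

section smooth

variable (G : Over (Spec (CommRingCat.of O))) [GrpObj G] [IsCommMonObj G] [Smooth G.hom] [IsSeparated G.hom]
  [QuasiCompact G.hom] [GeometricallyConnected G.hom]

theorem smooth_pi (φ : O →+* ∀ i, A i) (n : ℕ) (hn : 0 < n) :
    Subsingleton (BigSite.HU Scheme.fppfPrecoverage (CGrpSh.pts Scheme.fppfPrecoverage G) n (AdFn.specOf φ)) := by
  refine Vanish.subsingleton_pi G A φ ?_ ?_ ?_ (fun i => ?_) n hn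
  · exact inferInstanceAs (Smooth (pullback.snd G.hom _))
  · exact inferInstanceAs (IsSeparated (pullback.snd G.hom _))
  · exact inferInstanceAs (QuasiCompact (pullback.snd G.hom _))
  · exact inferInstanceAs (GeometricallyConnected (pullback.snd G.hom _))

theorem smooth_one (B : Type u) [CommRing B] [HenselianLocalRing B] [Finite (ResidueField B)] (φ : O →+* B) (n : ℕ)
    (hn : 0 < n) :
    Subsingleton (BigSite.HU Scheme.fppfPrecoverage (CGrpSh.pts Scheme.fppfPrecoverage G) n (AdFn.specOf φ)) := by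
  refine Vanish.subsingleton_one G B φ ?_ ?_ ?_ ?_ n hn
  · exact inferInstanceAs (Smooth (pullback.snd G.hom _))
  · exact inferInstanceAs (IsSeparated (pullback.snd G.hom _))
  · exact inferInstanceAs (QuasiCompact (pullback.snd G.hom _))
  · exact inferInstanceAs (GeometricallyConnected (pullback.snd G.hom _))

end smooth

section fin

variable (N : Over (Spec (CommRingCat.of O))) [GrpObj N] [IsCommMonObj N] [IsFinite N.hom] [Flat N.hom]
  [LocallyOfFinitePresentation N.hom]

/-- `H^n(∏ A i, N) = 0` for `n > 1`. -/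
theorem subsingleton_pi (φ : O →+* ∀ i, A i) (n : ℕ) (hn : 1 < n) :
    Subsingleton (BigSite.HU Scheme.fppfPrecoverage (CGrpSh.pts Scheme.fppfPrecoverage N) n (AdFn.specOf φ)) := by
  obtain ⟨G, M, _, _, _, _, v, _, q, _, w, h1, h2, h3, h4, h5, h6, hex⟩ :=
    K834.EmbConn.exists_seq (CommRingCat.of O) N
  obtain ⟨n, rfl⟩ : ∃ m, n = m + 2 := ⟨n - 2, by omega⟩
  refine subsingleton_of_forall_eq 0 fun x => ?_
  refine Dev.van_of_emb (𝓗 := bigCoh Scheme.fppfPrecoverage (Spec (CommRingCat.of O))) hex (fun m y => ?_)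
    (fun m y => ?_) n x
  · exact @Subsingleton.elim _ (smooth_pi A G φ (m + 1) (Nat.succ_pos m)) _ _
  · exact @Subsingleton.elim _ (smooth_pi A M φ (m + 1) (Nat.succ_pos m)) _ _

/-- `H^n(B, N) = 0` for `n > 1`. -/
theorem subsingleton_one (B : Type u) [CommRing B] [HenselianLocalRing B] [Finite (ResidueField B)] (φ : O →+* B)
    (n : ℕ) (hn : 1 < n) :
    Subsingleton (BigSite.HU Scheme.fppfPrecoverage (CGrpSh.pts Scheme.fppfPrecoverage N) n (AdFn.specOf φ)) := by
  obtain ⟨G, M, _, _, _, _, v, _, q, _, w, h1, h2, h3, h4, h5, h6, hex⟩ :=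
    K834.EmbConn.exists_seq (CommRingCat.of O) N
  obtain ⟨n, rfl⟩ : ∃ m, n = m + 2 := ⟨n - 2, by omega⟩
  refine subsingleton_of_forall_eq 0 fun x => ?_
  refine Dev.van_of_emb (𝓗 := bigCoh Scheme.fppfPrecoverage (Spec (CommRingCat.of O))) hex (fun m y => ?_)
    (fun m y => ?_) n x
  · exact @Subsingleton.elim _ (smooth_one G B φ (m + 1) (Nat.succ_pos m)) _ _
  · exact @Subsingleton.elim _ (smooth_one M B φ (m + 1) (Nat.succ_pos m)) _ _

end fin

section good

theorem surj0 (R : I → Type u) [∀ i, CommRing (R i)] [∀ i, IsLocalRing (R i)] (ψ : ∀ i, O →+* R i)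
    (G : Over (Spec (CommRingCat.of O))) [GrpObj G] [IsCommMonObj G] [QuasiCompact G.hom]
    (y : ∀ i, BigSite.HU Scheme.fppfPrecoverage (CGrpSh.pts Scheme.fppfPrecoverage G) 0 (AdFn.specOf (ψ i))) :
    ∃ x : BigSite.HU Scheme.fppfPrecoverage (CGrpSh.pts Scheme.fppfPrecoverage G) 0 (AdFn.specOf (RingHom.pi ψ)),
      ∀ i, HRes.resHU Scheme.fppfPrecoverage _ 0 (eP R ψ i) x = y i := by
  obtain ⟨z, hz⟩ := K827.Pts.exists_point_pi G R ψ (fun i => K827.PtsH0.ptMap _ G _ (y i))
  obtain ⟨x, rfl⟩ := (K827.PtsH0.ptMap_bijective Scheme.fppfPrecoverage G (AdFn.specOf (RingHom.pi ψ))).2 z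
  refine ⟨x, fun i => ?_⟩
  apply (K827.PtsH0.ptMap_bijective Scheme.fppfPrecoverage G _).1
  rw [K827.PtsH0.ptMap_resHU, hz]

/-- Finite locally free groups of bounded rank. -/
theorem good_fin (N : Over (Spec (CommRingCat.of O))) [GrpObj N] [IsCommMonObj N] [IsFinite N.hom] [Flat N.hom]
    [LocallyOfFinitePresentation N.hom] (n : ℕ) (hn : ∀ s, Scheme.Hom.finrank N.hom s ≤ n) :
    Dev.Good (bigCoh Scheme.fppfPrecoverage (Spec (CommRingCat.of O))) (eP A ψ)
      (CGrpSh.pts Scheme.fppfPrecoverage N) where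
  surj0 := surj0 A ψ N
  inj1 x hx := K827.ProdTor.eq_zero_of_res A ψ _ x hx
  surj1 := K827.ProdTor.exists_of_res A ψ _ n hn
  van m x := @Subsingleton.elim _ (subsingleton_pi A N (RingHom.pi ψ) (m + 2) (by omega)) _ _

/-- Smooth groups with connected fibres. -/
theorem good_smooth (G : Over (Spec (CommRingCat.of O))) [GrpObj G] [IsCommMonObj G] [Smooth G.hom] [IsSeparated G.hom]
    [QuasiCompact G.hom] [GeometricallyConnected G.hom] :
    Dev.Good (bigCoh Scheme.fppfPrecoverage (Spec (CommRingCat.of O))) (eP A ψ)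
      (CGrpSh.pts Scheme.fppfPrecoverage G) :=
  Dev.Good.of_acyclic (surj0 A ψ G)
    (fun n x => @Subsingleton.elim _ (smooth_pi A G (RingHom.pi ψ) (n + 1) (Nat.succ_pos n)) _ _)
    (fun i x => @Subsingleton.elim _ (smooth_one G (A i) (ψ i) 1 Nat.one_pos) _ _)

end good

end K834.FinVan
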