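import Groth.Agent.TateGlob.K828.Coh

/-!
# Devissage for the comparison `H^n(T, F) → ∏ H^n(T_i, F)` (helper834)

`Good 𝓗 r F`: degree 0 surjective, degree 1 bijective, vanishing of `H^n(T, F)` for `n ≥ 2`.  Stable under extensions.
-/

set_option autoImplicit false

universe u v

open CategoryTheory CategoryTheory.Limits AlgebraicGeometry Opposite

namespace K834.Dev

variable {K : Precoverage Scheme.{u}} {S : Scheme.{u}} (𝓗 : K828.CohT K S) {I : Type v} {T : Over S}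
  {Ti : I → Over S} (r : ∀ i, Ti i ⟶ T)

/-- The comparison maps `H^n(T, F) → ∏ H^n(T_i, F)` are surjective in degree `0`, bijective in degree `1`, and
`H^n(T, F) = 0` for `n ≥ 2`. -/
structure Good (F : BigSite.Ab K S) : Prop where
  surj0 : ∀ y : ∀ i, 𝓗.H F 0 (Ti i), ∃ x : 𝓗.H F 0 T, ∀ i, 𝓗.res (r i) x = y i
  inj1 : ∀ x : 𝓗.H F 1 T, (∀ i, 𝓗.res (r i) x = 0) → x = 0
  surj1 : ∀ y : ∀ i, 𝓗.H F 1 (Ti i), ∃ x : 𝓗.H F 1 T, ∀ i, 𝓗.res (r i) x = y i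
  van : ∀ (n : ℕ) (x : 𝓗.H F (n + 2) T), x = 0

variable {𝓗 r}

theorem Good.bijective {F : BigSite.Ab K S} (h : Good 𝓗 r F) :
    Function.Bijective (fun (x : 𝓗.H F 1 T) (i : I) => 𝓗.res (r i) x) := by
  constructor
  · intro x y hxy
    rw [← sub_eq_zero]
    refine h.inj1 _ fun i => ?_
    rw [map_sub, sub_eq_zero]
    exact congrFun hxy i
  · intro y
    obtain ⟨x, hx⟩ := h.surj1 y
    exact ⟨x, funext hx⟩

theorem Good.of_iso {F G : BigSite.Ab K S} (e : F ≅ G) (h : Good 𝓗 r F) : Good 𝓗 r G := by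
  have hh : ∀ {n : ℕ} {T : Over S} (x : 𝓗.H G n T), 𝓗.map e.hom (𝓗.map e.inv x) = x := by
    intro n T x
    rw [← 𝓗.map_comp, e.inv_hom_id, 𝓗.map_id]
  refine ⟨fun y => ?_, fun x hx => ?_, fun y => ?_, fun n x => ?_⟩
  · obtain ⟨x, hx⟩ := h.surj0 fun i => 𝓗.map e.inv (y i)
    exact ⟨𝓗.map e.hom x, fun i => by rw [← 𝓗.map_res, hx, hh]⟩
  · rw [← hh x, h.inj1 (𝓗.map e.inv x) fun i => by rw [← 𝓗.map_res, hx, map_zero], map_zero]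
  · obtain ⟨x, hx⟩ := h.surj1 fun i => 𝓗.map e.inv (y i)
    exact ⟨𝓗.map e.hom x, fun i => by rw [← 𝓗.map_res, hx, hh]⟩
  · rw [← hh x, h.van n (𝓗.map e.inv x), map_zero]

section

variable {A : ShortComplex (BigSite.Ab K S)} (hA : A.ShortExact)

include hA

/-- `Good` is stable under extensions. -/
theorem Good.ext (h₁ : Good 𝓗 r A.X₁) (h₃ : Good 𝓗 r A.X₃) : Good 𝓗 r A.X₂ := by
  refine ⟨fun y => ?_, fun x hx => ?_, fun y => ?_, fun n x => ?_⟩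
  · obtain ⟨q, hq⟩ := h₃.surj0 fun i => 𝓗.map A.g (y i)
    have h : 𝓗.del hA q = 0 := h₁.inj1 _ fun i => by rw [← 𝓗.del_res, hq, 𝓗.del_map]
    obtain ⟨x, rfl⟩ := 𝓗.exact₃ hA q h
    have hd : ∀ i, ∃ z : 𝓗.H A.X₁ 0 (Ti i), 𝓗.map A.f z = y i - 𝓗.res (r i) x := fun i => by
      apply 𝓗.exact₂ hA
      rw [map_sub, 𝓗.map_res, hq, sub_self]
    choose z hz using hd
    obtain ⟨z', hz'⟩ := h₁.surj0 z
    exact ⟨x + 𝓗.map A.f z', fun i => by rw [map_add, ← 𝓗.map_res, hz', hz, add_sub_cancel]⟩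
  · have h : 𝓗.map A.g x = 0 := h₃.inj1 _ fun i => by rw [← 𝓗.map_res, hx, map_zero]
    obtain ⟨z, rfl⟩ := 𝓗.exact₂ hA x h
    have hd : ∀ i, ∃ q : 𝓗.H A.X₃ 0 (Ti i), 𝓗.del hA q = 𝓗.res (r i) z := fun i => by
      apply 𝓗.exact₁ hA
      rw [𝓗.map_res, hx]
    choose q hq using hd
    obtain ⟨q', hq'⟩ := h₃.surj0 q
    have : z = 𝓗.del hA q' := by
      rw [← sub_eq_zero]
      refine h₁.inj1 _ fun i => ?_
      rw [map_sub, ← 𝓗.del_res, hq', hq, sub_self]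
    rw [this, 𝓗.map_del]
  · obtain ⟨q, hq⟩ := h₃.surj1 fun i => 𝓗.map A.g (y i)
    obtain ⟨x, rfl⟩ := 𝓗.exact₃ hA q (h₁.van 0 _)
    have hd : ∀ i, ∃ z : 𝓗.H A.X₁ 1 (Ti i), 𝓗.map A.f z = y i - 𝓗.res (r i) x := fun i => by
      apply 𝓗.exact₂ hA
      rw [map_sub, 𝓗.map_res, hq, sub_self]
    choose z hz using hd
    obtain ⟨z', hz'⟩ := h₁.surj1 z
    exact ⟨x + 𝓗.map A.f z', fun i => by rw [map_add, ← 𝓗.map_res, hz', hz, add_sub_cancel]⟩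
  · obtain ⟨z, rfl⟩ := 𝓗.exact₂ hA x (h₃.van n _)
    rw [h₁.van n z, map_zero]

/-- Vanishing in degrees `≥ 2` for a subsheaf of an acyclic sheaf with acyclic quotient. -/
theorem van_of_emb (h₂ : ∀ (n : ℕ) (x : 𝓗.H A.X₂ (n + 1) T), x = 0) (h₃ : ∀ (n : ℕ) (x : 𝓗.H A.X₃ (n + 1) T), x = 0)
    (n : ℕ) (x : 𝓗.H A.X₁ (n + 2) T) : x = 0 := by
  obtain ⟨q, rfl⟩ := 𝓗.exact₁ hA x (h₂ (n + 1) _)
  rw [h₃ n q, map_zero]

end

/-- The acyclic case. -/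
theorem Good.of_acyclic {F : BigSite.Ab K S}
    (surj0 : ∀ y : ∀ i, 𝓗.H F 0 (Ti i), ∃ x : 𝓗.H F 0 T, ∀ i, 𝓗.res (r i) x = y i)
    (h : ∀ (n : ℕ) (x : 𝓗.H F (n + 1) T), x = 0) (hi : ∀ (i : I) (x : 𝓗.H F 1 (Ti i)), x = 0) : Good 𝓗 r F :=
  ⟨surj0, fun x _ => h 0 x, fun y => ⟨0, fun i => by rw [map_zero, hi i (y i)]⟩, fun n x => h (n + 1) x⟩

end K834.Dev
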