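import Groth.Agent.TateGlob.K834.FinVan
import Groth.Agent.TateGlob.K620.MdlPts

/-!
# Commutative group schemes with a two-step structure (helper834)

`IsStr X`: exact sequences `N → X → Q`, `Q0 → Q → E` with `N`, `E` finite locally free and `Q0` smooth separated with
geometrically connected fibres.
-/

set_option autoImplicit false
set_option backward.isDefEq.respectTransparency false
universe u
open CategoryTheory CategoryTheory.Limits MonoidalCategory CartesianMonoidalCategory MonObj GrpObj AlgebraicGeometry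
open IsLocalRing

namespace K834.Str

/-- Flat separated finitely presented. -/
structure Fsp {B : Scheme.{u}} (X : Over B) : Prop where
  flat : Flat X.hom
  sep : IsSeparated X.hom
  lfp : LocallyOfFinitePresentation X.hom
  qc : QuasiCompact X.hom

/-- Exactness of a sequence of group schemes. -/
structure Ex {B : Scheme.{u}} {X Y Z : Over B} [GrpObj Z] (u : X ⟶ Y) (v : Y ⟶ Z) : Prop where
  ker : AlgGrp.IsKernel u v
  flat : Flat v.left
  surj : Surjective v.left
  lfp : LocallyOfFinitePresentation v.left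

/-- The structure. -/
def IsStr {B : Scheme.{u}} (X : Over B) [GrpObj X] : Prop :=
  ∃ (N Q Q0 E : Over B) (_ : GrpObj N) (_ : IsCommMonObj N) (_ : GrpObj Q) (_ : IsCommMonObj Q) (_ : GrpObj Q0)
    (_ : IsCommMonObj Q0) (_ : GrpObj E) (_ : IsCommMonObj E) (u : N ⟶ X) (v : X ⟶ Q) (i : Q0 ⟶ Q) (p : Q ⟶ E)
    (_ : IsMonHom u) (_ : IsMonHom v) (_ : IsMonHom i) (_ : IsMonHom p),
    Ex u v ∧ Ex i p ∧ Fsp N ∧ Fsp Q ∧ Fsp Q0 ∧ Fsp E ∧ IsFinite N.hom ∧ IsFinite E.hom ∧ Smooth Q0.hom ∧
      GeometricallyConnected Q0.hom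

section bc

variable {B B' : Scheme.{u}} (b : B' ⟶ B)

theorem Fsp.bc {X : Over B} (h : Fsp X) : Fsp (Red.bc b X) := by
  obtain ⟨h1, h2, h3, h4⟩ := h
  exact ⟨inferInstanceAs (Flat (pullback.snd X.hom b)), inferInstanceAs (IsSeparated (pullback.snd X.hom b)),
    inferInstanceAs (LocallyOfFinitePresentation (pullback.snd X.hom b)),
    inferInstanceAs (QuasiCompact (pullback.snd X.hom b))⟩

theorem Ex.bc {X Y Z : Over B} [GrpObj Z] {u : X ⟶ Y} {v : Y ⟶ Z} (h : Ex u v) :
    Ex (Z := Red.bc b Z) ((Over.pullback b).map u) ((Over.pullback b).map v) := by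
  obtain ⟨h1, h2, h3, h4⟩ := h
  have sq := Groth.Agent.Sga3.H515.GrpModel.isPullback_map_left b v
  exact ⟨Groth.Agent.Sga7.H760.KerBc.isKernel_bc b h1, MorphismProperty.of_isPullback (P := @Flat) sq h2,
    MorphismProperty.of_isPullback (P := @Surjective) sq h3,
    MorphismProperty.of_isPullback (P := @LocallyOfFinitePresentation) sq h4⟩

theorem IsStr.bc {X : Over B} [GrpObj X] (h : IsStr X) : IsStr (Red.bc b X) := by
  obtain ⟨N, Q, Q0, E, _, _, _, _, _, _, _, _, u, v, i, p, _, _, _, _, h1, h2, h3, h4, h5, h6, h7, h8, h9, h10⟩ := h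
  refine ⟨Red.bc b N, Red.bc b Q, Red.bc b Q0, Red.bc b E, inferInstance, inferInstance, inferInstance, inferInstance,
    inferInstance, inferInstance, inferInstance, inferInstance, (Over.pullback b).map u, (Over.pullback b).map v,
    (Over.pullback b).map i, (Over.pullback b).map p, inferInstance, inferInstance, inferInstance, inferInstance,
    h1.bc b, h2.bc b, h3.bc b, h4.bc b, h5.bc b, h6.bc b, ?_, ?_, ?_, ?_⟩
  · exact inferInstanceAs (IsFinite (pullback.snd N.hom b))
  · exact inferInstanceAs (IsFinite (pullback.snd E.hom b))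
  · exact inferInstanceAs (Smooth (pullback.snd Q0.hom b))
  · exact inferInstanceAs (GeometricallyConnected (pullback.snd Q0.hom b))

end bc

section iso

variable {B : Scheme.{u}} {X X' : Over B} [GrpObj X] [GrpObj X']

omit [GrpObj X] [GrpObj X'] in
theorem Ex.of_iso {N Q : Over B} [GrpObj Q] {u : N ⟶ X} {v : X ⟶ Q} (h : Ex u v) (e : X ≅ X') :
    Ex (u ≫ e.hom) (e.inv ≫ v) := by
  obtain ⟨h1, h2, h3, h4⟩ := h
  have : IsIso e.inv.left := inferInstanceAs (IsIso ((Over.forget B).map e.inv))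
  refine ⟨?_, ?_, ?_, ?_⟩
  · exact IsPullback.of_iso h1 (Iso.refl _) e (Iso.refl _) (Iso.refl _) (by simp) (toUnit_unique _ _) (by simp)
      (by simp)
  · rw [Over.comp_left]
    infer_instance
  · rw [Over.comp_left]
    infer_instance
  · rw [Over.comp_left]
    infer_instance

theorem IsStr.of_iso (h : IsStr X) (e : X ≅ X') [IsMonHom e.hom] : IsStr X' := by
  obtain ⟨N, Q, Q0, E, _, _, _, _, _, _, _, _, u, v, i, p, _, _, _, _, h1, h2, hr⟩ := h
  exact ⟨N, Q, Q0, E, inferInstance, inferInstance, inferInstance, inferInstance,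
    inferInstance, inferInstance, inferInstance, inferInstance, u ≫ e.hom, e.inv ≫ v, i, p, inferInstance,
    inferInstance, inferInstance, inferInstance, h1.of_iso e, h2, hr⟩

end iso

section good

variable {O : Type u} [CommRing O] [IsDomain O] {I : Type u} (A : I → Type u) [∀ i, CommRing (A i)]
  [∀ i, HenselianLocalRing (A i)] [∀ i, Finite (ResidueField (A i))] (ψ : ∀ i, O →+* A i)

theorem good_fin (N : Over (Spec (CommRingCat.of O))) [GrpObj N] [IsCommMonObj N] (h1 : IsFinite N.hom)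
    (h2 : Fsp N) :
    Dev.Good (K828.BigCoh.bigCoh Scheme.fppfPrecoverage (Spec (CommRingCat.of O))) (K827.ProdTor.eP A ψ)
      (CGrpSh.pts Scheme.fppfPrecoverage N) := by
  obtain ⟨h3, -, h4, -⟩ := h2
  obtain ⟨n, hn⟩ := K827.ProdTor.finrank_le_of_isDomain (O := O) N.hom
  exact FinVan.good_fin A ψ N n hn

theorem Ex.shortExact {B : Scheme.{u}} {X Y Z : Over B} [GrpObj X] [IsCommMonObj X] [GrpObj Y] [IsCommMonObj Y]
    [GrpObj Z] [IsCommMonObj Z] {u : X ⟶ Y} {v : Y ⟶ Z} [IsMonHom u] [IsMonHom v] (h : Ex u v) :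
    ∃ w : u ≫ v = 1, (CGrpSh.seq Scheme.fppfPrecoverage u v w).ShortExact := by
  obtain ⟨h1, h2, h3, h4⟩ := h
  exact ⟨h1.w, K620.HopfSeq.shortExact_of_isKernel u v h1 h1.w⟩

/-- Structured groups are good. -/
theorem IsStr.good {X : Over (Spec (CommRingCat.of O))} [GrpObj X] [IsCommMonObj X] (h : IsStr X) :
    Dev.Good (K828.BigCoh.bigCoh Scheme.fppfPrecoverage (Spec (CommRingCat.of O))) (K827.ProdTor.eP A ψ)
      (CGrpSh.pts Scheme.fppfPrecoverage X) := by
  obtain ⟨N, Q, Q0, E, _, _, _, _, _, _, _, _, u, v, i, p, _, _, _, _, h1, h2, h3, h4, h5, h6, h7, h8, h9, h10⟩ := h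
  obtain ⟨w1, e1⟩ := h1.shortExact
  obtain ⟨w2, e2⟩ := h2.shortExact
  obtain ⟨-, h11, -, h12⟩ := h5
  have g1 := good_fin A ψ N h7 h3
  have g2 := good_fin A ψ E h8 h6
  have g3 := FinVan.good_smooth A ψ Q0
  have g4 : Dev.Good (K828.BigCoh.bigCoh Scheme.fppfPrecoverage (Spec (CommRingCat.of O))) (K827.ProdTor.eP A ψ)
      (CGrpSh.pts Scheme.fppfPrecoverage Q) := Dev.Good.ext e2 g3 g2
  exact Dev.Good.ext e1 g1 g4

end good

end K834.Str
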