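import Groth.Agent.TateGlob.K834.Str
import Groth.Agent.TateGlob.K620.MdlLim
import Groth.Agent.S18877

/-!
# Models of structured groups are structured at a later stage (helper834)
-/

set_option autoImplicit false
set_option backward.isDefEq.respectTransparency false
set_option linter.overlappingInstances false
set_option linter.unusedSectionVars false
universe u
open CategoryTheory CategoryTheory.Limits MonoidalCategory CartesianMonoidalCategory MonObj GrpObj AlgebraicGeometry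

namespace K834.StrMdl

open K620.GMod K834.Str Groth.Agent.Ega43.LimitDescend Groth.Agent.Sga3.H515

/-- Geometric connectedness from geometric points. -/
theorem geomConn_of_algClosed {X S : Scheme.{u}} (f : X ⟶ S)
    (h : ∀ (Ω : Type u) [Field Ω] [IsAlgClosed Ω] (t : Spec (CommRingCat.of Ω) ⟶ S), ConnectedSpace ↥(pullback f t)) :
    GeometricallyConnected f := by
  rw [GeometricallyConnected.eq_geometrically]
  have : ObjectProperty.IsClosedUnderIsomorphisms (fun X : Scheme.{u} => ConnectedSpace X) := inferInstance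
  rw [geometrically_iff_of_isClosedUnderIsomorphisms]
  intro k _ y
  let a : Spec (CommRingCat.of (AlgebraicClosure k)) ⟶ Spec (CommRingCat.of k) :=
    Spec.map (CommRingCat.ofHom (algebraMap k (AlgebraicClosure k)))
  have h1 : ConnectedSpace ↥(pullback f (a ≫ y)) := h (AlgebraicClosure k) (a ≫ y)
  let p : pullback f (a ≫ y) ⟶ pullback f y := pullback.lift (pullback.fst _ _) (pullback.snd _ _ ≫ a)
    (by rw [Category.assoc, pullback.condition])
  have hfst : p ≫ pullback.fst f y = pullback.fst f (a ≫ y) := pullback.lift_fst _ _ _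
  have sq : IsPullback p (pullback.snd f (a ≫ y)) (pullback.snd f y) a := by
    refine IsPullback.of_right ?_ (pullback.lift_snd _ _ _) (IsPullback.of_hasPullback f y)
    rw [hfst]
    exact IsPullback.of_hasPullback _ _
  have ha : Surjective a := by
    refine ⟨fun x => ⟨IsLocalRing.closedPoint _, ?_⟩⟩
    exact Subsingleton.elim (α := PrimeSpectrum k) _ _
  have hp : Surjective p := MorphismProperty.of_isPullback (P := @Surjective) sq.flip ha
  exact hp.surj.connectedSpace p.continuous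

section lim

variable {I : Type u} [SmallCategory I] {D : I ⥤ Scheme.{u}} {c : Cone D} {i : I}

/-- Eventually (for all later stages of some stage). -/
def Ev (R : ∀ ⦃j : I⦄, (j ⟶ i) → Prop) : Prop := ∃ (j : I) (f : j ⟶ i), ∀ ⦃k : I⦄ (g : k ⟶ j), R (g ≫ f)

theorem Ev.and [IsCofiltered I] {R R' : ∀ ⦃j : I⦄, (j ⟶ i) → Prop} (h : Ev R) (h' : Ev R') :
    Ev fun _ f => R f ∧ R' f := by
  obtain ⟨j, f, h⟩ := h
  obtain ⟨j', f', h'⟩ := h'
  obtain ⟨l, a, a', e⟩ := IsCofiltered.cospan f f'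
  refine ⟨l, a ≫ f, fun k g => ⟨?_, ?_⟩⟩
  · rw [← Category.assoc]
    exact h _
  · rw [e, ← Category.assoc]
    exact h' _

theorem Ev.mono {R R' : ∀ ⦃j : I⦄, (j ⟶ i) → Prop} (h : Ev R) (h' : ∀ ⦃j : I⦄ (f : j ⟶ i), R f → R' f) : Ev R' := by
  obtain ⟨j, f, h⟩ := h
  exact ⟨j, f, fun k g => h' _ (h g)⟩

theorem Ev.of_exists {R : ∀ ⦃j : I⦄, (j ⟶ i) → Prop} (h : ∃ (j : I) (f : j ⟶ i), R f)
    (hR : ∀ ⦃j k : I⦄ (f : j ⟶ i) (g : k ⟶ j), R f → R (g ≫ f)) : Ev R := by
  obtain ⟨j, f, h⟩ := h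
  exact ⟨j, f, fun k g => hR f g h⟩

theorem Ev.move {R : ∀ ⦃j : I⦄, (j ⟶ i) → Prop} {j : I} (f : j ⟶ i)
    (h : Ev (i := j) fun _ g => R (g ≫ f)) : Ev R := by
  obtain ⟨k, g, h⟩ := h
  refine ⟨k, g ≫ f, fun l a => ?_⟩
  rw [← Category.assoc]
  exact h a

variable {G : Over c.pt} [GrpObj G]

theorem prop_of_eqv {P : MorphismProperty Scheme.{u}} [P.RespectsIso] {B : Scheme.{u}} {t : c.pt ⟶ B}
    {M M' : Mdl t G} (h : Eqv M M') (hP : P M.X.hom) : P M'.X.hom := by
  obtain ⟨θ, -⟩ := h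
  have : IsIso θ.inv.left := inferInstanceAs (IsIso ((Over.forget B).map θ.inv))
  rw [← Over.w θ.inv]
  exact (P.cancel_left_of_respectsIso _ _).2 hP

theorem prop_mv {P : MorphismProperty Scheme.{u}} [P.IsStableUnderBaseChange] (M : Mdl (c.π.app i) G) {j k : I}
    (f : j ⟶ i) (g : k ⟶ j) (h : P (M.mv f).X.hom) : P (M.mv (g ≫ f)).X.hom := by
  have := MorphismProperty.IsStableUnderBaseChange.respectsIso (P := P)
  refine prop_of_eqv (eqv_mv_mv M f g) ?_
  exact P.pullback_snd _ _ h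

variable [IsCofiltered I] (hc : IsLimit c) [∀ (i i' : I) (f : i ⟶ i'), IsAffineHom (D.map f)]
    [∀ i, CompactSpace (D.obj i)] [∀ i, QuasiSeparatedSpace (D.obj i)]

include hc

theorem ev_prop {P : MorphismProperty Scheme.{u}} [P.IsStableUnderBaseChange] (hP : DescendsLim P)
    (M : Mdl (c.π.app i) G) (h : P G.hom) : Ev fun _ f => P (M.mv f).X.hom :=
  Ev.of_exists (exists_prop_hom hc hP M h) fun _ _ f g hf => prop_mv M f g hf

theorem ev_geomConn [∀ i, AlgebraicGeometry.IsNoetherian (D.obj i)] (M : Mdl (c.π.app i) G)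
    (h : GeometricallyConnected G.hom) : Ev fun _ f => GeometricallyConnected (M.mv f).X.hom := by
  refine Ev.of_exists ?_ fun _ _ f g hf => prop_mv (P := @GeometricallyConnected) M f g hf
  have sq : IsPullback (M.e.inv.left ≫ pullback.fst M.X.hom (c.π.app i)) G.hom M.X.hom (c.π.app i) := by
    refine IsPullback.of_iso (IsPullback.of_hasPullback M.X.hom (c.π.app i))
      ((Over.forget _).mapIso M.e) (Iso.refl _) (Iso.refl _) (Iso.refl _) ?_ ?_ (by simp) (by simp)
    · change pullback.fst M.X.hom (c.π.app i) ≫ 𝟙 _ = M.e.hom.left ≫ M.e.inv.left ≫ _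
      rw [← Category.assoc, ← Over.comp_left, M.e.hom_inv_id, Category.comp_id]
      exact (Category.id_comp _).symm
    · change pullback.snd M.X.hom (c.π.app i) ≫ 𝟙 _ = M.e.hom.left ≫ G.hom
      rw [Category.comp_id]
      exact (Over.w M.e.hom).symm
  obtain ⟨j, a, ha⟩ := Groth.Agent.S18877.result D c hc i M.X.hom G.hom _ sq (fun Ω _ _ t => by
    have : ConnectedSpace ↥(pullback G.hom t) :=
      GeometricallyConnected.geometrically_connectedSpace _ _ _ (.of_hasPullback _ _)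
    infer_instance)
  refine ⟨j, a, geomConn_of_algClosed _ fun Ω _ _ t => ?_⟩
  have h1 := ha Ω t
  let e : pullback (M.mv a).X.hom t ≅ pullback M.X.hom (t ≫ D.map a) := pullbackLeftPullbackSndIso M.X.hom (D.map a) t
  have h2 : PreconnectedSpace ↥(pullback (M.mv a).X.hom t) := by
    refine ⟨?_⟩
    rw [← Set.range_eq_univ.2 e.inv.homeomorph.surjective]
    exact isPreconnected_range e.inv.continuous
  have h3 : Nonempty ↥(pullback (M.mv a).X.hom t) := by
    let s : Spec (CommRingCat.of Ω) ⟶ pullback (M.mv a).X.hom t :=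
      pullback.lift (t ≫ (η[(M.mv a).X] : 𝟙_ _ ⟶ _).left) (𝟙 _) (by
        have : (η[(M.mv a).X] : 𝟙_ _ ⟶ _).left ≫ (M.mv a).X.hom = 𝟙 _ := Over.w η[(M.mv a).X]
        rw [Category.assoc, this]
        exact (Category.comp_id t).trans (Category.id_comp t).symm)
    exact ⟨s (IsLocalRing.closedPoint Ω)⟩
  exact { toPreconnectedSpace := h2, toNonempty := h3 }

end lim

theorem ex_of_exactAt {N B : Scheme.{u}} {t : N ⟶ B} {G H L : Over N} [GrpObj G] [GrpObj H] [GrpObj L]
    [IsSchemeTheoreticallyDominant t] [QuasiCompact t] {M : Mdl t G} {M' : Mdl t H}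
    {M'' : Mdl t L} {u : G ⟶ H} {v : H ⟶ L} [IsMonHom u] [IsMonHom v] (h : ExactAt M M' M'' u v) :
    ∃ (u' : M.X ⟶ M'.X) (v' : M'.X ⟶ M''.X) (_ : IsMonHom u') (_ : IsMonHom v'), Ex u' v' := by
  obtain ⟨u', v', hu, hv, hk, hfl, hs⟩ := h
  have h1 : IsMonHom u' := hu.isMonHom
  have h2 : IsMonHom v' := hv.isMonHom
  have c0 : v'.left ≫ M''.X.hom = M'.X.hom := Over.w v'
  have c1 : LocallyOfFinitePresentation v'.left := by
    have : LocallyOfFinitePresentation (v'.left ≫ M''.X.hom) := by rw [c0]; infer_instance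
    exact Groth.Agent.Flat2E.Thick.locallyOfFinitePresentation_of_comp _ M''.X.hom
  exact ⟨u', v', h1, h2, hk, hfl, hs, c1⟩

theorem fsp {N B : Scheme.{u}} {t : N ⟶ B} {G : Over N} [GrpObj G] (M : Mdl t G) : Fsp M.X :=
  ⟨M.flat, M.sep, M.lfp, M.qc⟩

theorem isStr_of_eqv {N B : Scheme.{u}} {t : N ⟶ B} [IsSchemeTheoreticallyDominant t] [QuasiCompact t] {G : Over N}
    [GrpObj G] {M M' : Mdl t G} (h : Eqv M M') (hM : IsStr M.X) : IsStr M'.X := by
  obtain ⟨θ, hθ⟩ := h
  have : IsMonHom θ.hom := hθ.isMonHom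
  exact hM.of_iso θ

section lim

variable {I : Type u} [SmallCategory I] {D : I ⥤ Scheme.{u}} {c : Cone D} {i : I} {G : Over c.pt} [GrpObj G]
  [IsCofiltered I] (hc : IsLimit c) [∀ (i i' : I) (f : i ⟶ i'), IsAffineHom (D.map f)]
  [∀ i, CompactSpace (D.obj i)] [∀ i, QuasiSeparatedSpace (D.obj i)]
  [∀ i, IsSchemeTheoreticallyDominant (c.π.app i)] [∀ i, QuasiCompact (c.π.app i)]
  [∀ i, AlgebraicGeometry.IsNoetherian (D.obj i)]

include hc

theorem ev_exact {H L : Over c.pt} [GrpObj H] [GrpObj L] (M : Mdl (c.π.app i) G) (M' : Mdl (c.π.app i) H)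
    (M'' : Mdl (c.π.app i) L) (u : G ⟶ H) (v : H ⟶ L) [IsMonHom u] [IsMonHom v] (h : Ex u v) :
    Ev fun _ f => ExactAt (M.mv f) (M'.mv f) (M''.mv f) u v :=
  Ev.of_exists (exists_exact hc M M' M'' u v h.ker h.flat h.surj) fun _ _ _ g hf => hf.mv g

/-- Models of structured groups are structured at all later stages of some stage. -/
theorem ev_isStr (M : Mdl (c.π.app i) G) (h : IsStr G) : Ev fun _ f => IsStr (M.mv f).X := by
  obtain ⟨N, Q, Q0, E, _, _, _, _, _, _, _, _, u, v, a, p, _, _, _, _, h1, h2, ⟨_, _, _, _⟩, ⟨_, _, _, _⟩,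
    ⟨_, _, _, _⟩, ⟨_, _, _, _⟩, h7, h8, h9, h10⟩ := h
  obtain ⟨i1, f1, ⟨MN⟩⟩ := exists_mdl hc N i
  obtain ⟨i2, f2, ⟨MQ⟩⟩ := exists_mdl hc Q i1
  obtain ⟨i3, f3, ⟨MQ0⟩⟩ := exists_mdl hc Q0 i2
  obtain ⟨i4, f4, ⟨ME⟩⟩ := exists_mdl hc E i3
  let MN' := MN.mv (f4 ≫ f3 ≫ f2)
  let MQ' := MQ.mv (f4 ≫ f3)
  let MQ0' := MQ0.mv f4
  let M' := M.mv (f4 ≫ f3 ≫ f2 ≫ f1)
  refine Ev.move (f4 ≫ f3 ≫ f2 ≫ f1) ?_
  have e1 := ev_exact hc MN' M' MQ' u v h1
  have e2 := ev_exact hc MQ0' MQ' ME a p h2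
  have e3 := ev_prop hc K286.Desc.descendsLim_isFinite MN' h7
  have e4 := ev_prop hc K286.Desc.descendsLim_isFinite ME h8
  have e5 := ev_prop hc LimSmooth.descendsLim_smooth MQ0' h9
  have e6 := ev_geomConn hc MQ0' h10
  refine (e1.and (e2.and (e3.and (e4.and (e5.and e6))))).mono ?_
  rintro j f ⟨d1, d2, d3, d4, d5, d6⟩
  obtain ⟨u', v', _, _, hx⟩ := ex_of_exactAt d1
  obtain ⟨a', p', _, _, hx'⟩ := ex_of_exactAt d2
  refine isStr_of_eqv (eqv_mv_mv M _ f) ?_
  exact ⟨(MN'.mv f).X, (MQ'.mv f).X, (MQ0'.mv f).X, (ME.mv f).X, inferInstance, inferInstance, inferInstance,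
    inferInstance, inferInstance, inferInstance, inferInstance, inferInstance, u', v', a', p', inferInstance,
    inferInstance, inferInstance, inferInstance, hx, hx', fsp _, fsp _, fsp _, fsp _, d3, d4, d5, d6⟩

end lim

end K834.StrMdl
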