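import Groth.Agent.TateLoc.K809.UnitAlg
import Groth.Agent.Sga3A.GeomConn
import Mathlib.RingTheory.Ideal.Operations
import Mathlib.AlgebraicGeometry.Geometrically.Connected

/-!
# The group scheme of units of the convolution algebra has geometrically connected fibres (helper834)
-/

set_option autoImplicit false
universe u

open WithConv TensorProduct Coalgebra LinearMap K809.UnitAlg

noncomputable section

namespace K834.UnitConn

variable {R : Type u} [CommRing R] {H : Type u} [AddCommGroup H] [Module R H] [Coalgebra R H] [IsCocomm R H]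

section crit

variable {C : Type u} [CommRing C] [Algebra R C]

/-- Constants in the convolution algebra. -/
abbrev cst (H : Type u) [AddCommGroup H] [Module R H] [Coalgebra R H] [IsCocomm R H] : C →+* V R H C :=
  algebraMap C (V R H C)

omit [Coalgebra R H] [IsCocomm R H] in
theorem finite_V [Module.Finite R H] [Module.Projective R H] : Module.Finite C (V R H C) := by
  obtain ⟨n, p, s, -, -, hs⟩ := Module.Finite.exists_comp_eq_id_of_projective R H
  let l : ((Fin n → R) →ₗ[R] C) →ₗ[C] V R H C :=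
    { toFun := fun f => toConv (f ∘ₗ s)
      map_add' := fun f g => rfl
      map_smul' := fun c f => rfl }
  have hl : Function.Surjective l := by
    intro f
    refine ⟨f.ofConv ∘ₗ p, ?_⟩
    apply ofConv_injective
    change (f.ofConv ∘ₗ p) ∘ₗ s = f.ofConv
    rw [LinearMap.comp_assoc, hs, LinearMap.comp_id]
  have h1 : Module.Finite C ((Fin n → R) →ₗ[R] C) :=
    Module.Finite.equiv ((Pi.basisFun R (Fin n)).constr C (M' := C))
  exact Module.Finite.of_surjective l hl

theorem vmap_cst {D : Type u} [CommRing D] [Algebra R D] (φ : C →ₐ[R] D) (c : C) :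
    vmap H φ (cst H c) = cst H (φ c) := by
  ext x
  change φ (c • algebraMap R C (counit x)) = φ c • algebraMap R D (counit x)
  rw [smul_eq_mul, smul_eq_mul, map_mul, AlgHom.commutes]

/-- Divisibility by a constant. -/
theorem exists_of_forall [IsDomain C] (g : C) (hg : g ≠ 0) (f : V R H C) (hf : ∀ x, ∃ c, f x = g * c) :
    ∃ f' : V R H C, f = cst H g * f' := by
  choose c hc using hf
  have hadd : ∀ x y, c (x + y) = c x + c y := fun x y => by
    apply mul_left_cancel₀ hg
    rw [← hc, mul_add, ← hc, ← hc]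
    exact map_add f.ofConv x y
  have hsmul : ∀ (r : R) x, c (r • x) = r • c x := fun r x => by
    apply mul_left_cancel₀ hg
    rw [← hc, mul_smul_comm, ← hc]
    exact map_smul f.ofConv r x
  refine ⟨toConv { toFun := c, map_add' := hadd, map_smul' := hsmul }, ?_⟩
  rw [← Algebra.smul_def]
  ext x
  exact hc x

theorem isUnit_of_forall [Module.Finite R H] [Module.Projective R H] [IsDomain C] {J : Type*} {κ : J → Type u}
    [∀ j, Field (κ j)] [∀ j, Algebra R (κ j)] (π : ∀ j, C →ₐ[R] κ j) (σ : ∀ j, κ j →ₐ[R] C)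
    (hσ : ∀ j, (π j).comp (σ j) = AlgHom.id R (κ j)) (g : J → C) (hg0 : ∀ j, g j ≠ 0) (hπg : ∀ j, π j (g j) = 0)
    (hg : ∀ j c, π j c = 0 → ∃ c', c = g j * c')
    (hmax : ∀ M : Ideal C, M.IsMaximal → ∃ j, ∀ c, π j c = 0 → c ∈ M) (w : V R H C)
    (hw : ∀ j, IsUnit (vmap H (π j) w)) : IsUnit w := by
  by_contra hcon
  obtain ⟨M, hM, hwM⟩ := exists_max_ideal_of_mem_nonunits hcon
  have hfin : Module.Finite C (V R H C) := finite_V
  have hM' : (M.comap (algebraMap C (V R H C))).IsMaximal := Ideal.isMaximal_comap_of_isIntegral_of_isMaximal M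
  obtain ⟨j, hj⟩ := hmax _ hM'
  obtain ⟨z, hz⟩ := (hw j).exists_right_inv
  have hz' : vmap H (π j) (vmap H (σ j) z) = z := by
    rw [← vmap_comp, hσ]
    rfl
  have h0 : vmap H (π j) (w * vmap H (σ j) z - 1) = 0 := by
    rw [map_sub, map_mul, hz', hz, map_one, sub_self]
  obtain ⟨f', hf'⟩ := exists_of_forall (g j) (hg0 j) (w * vmap H (σ j) z - 1) fun x => hg j _ (congrArg (fun v : V R H (κ j) => v x) h0)
  have h1 : w * vmap H (σ j) z - 1 ∈ M := by
    rw [hf']
    exact M.mul_mem_right _ (hj (g j) (hπg j))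
  have h2 : (1 : V R H C) ∈ M := by
    have := M.sub_mem (M.mul_mem_right (vmap H (σ j) z) hwM) h1
    rwa [sub_sub_cancel] at this
  exact hM.ne_top ((Ideal.eq_top_iff_one M).2 h2)

end crit

section line

open Polynomial

variable (κ : Type u) [Field κ]

/-- Polynomials not vanishing at `0` and `1`. -/
def Sub : Submonoid κ[X] where
  carrier := {f | f.eval 0 ≠ 0 ∧ f.eval 1 ≠ 0}
  mul_mem' {a b} ha hb := by
    constructor
    · rw [eval_mul]; exact mul_ne_zero ha.1 hb.1
    · rw [eval_mul]; exact mul_ne_zero ha.2 hb.2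
  one_mem' := by simp

theorem ne_zero_of_mem {f : κ[X]} (hf : f ∈ Sub κ) : f ≠ 0 := by
  rintro rfl
  exact hf.1 eval_zero

/-- The semilocal ring of the line at `0` and `1`. -/
abbrev L : Type u := Localization (Sub κ)

instance : IsDomain (L κ) := IsLocalization.isDomain_localization (fun _ hf =>
  mem_nonZeroDivisors_of_ne_zero (ne_zero_of_mem κ hf))

variable {κ}

/-- Evaluation at `a`. -/
def ev (a : κ) (ha : ∀ f ∈ Sub κ, f.eval a ≠ 0) : L κ →ₐ[κ] κ :=
  IsLocalization.liftAlgHom (M := Sub κ) (f := (aeval a : κ[X] →ₐ[κ] κ)) fun y => by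
    rw [coe_aeval_eq_eval]
    exact isUnit_iff_ne_zero.2 (ha y.1 y.2)

theorem ev_algebraMap (a : κ) (ha : ∀ f ∈ Sub κ, f.eval a ≠ 0) (f : κ[X]) :
    ev a ha (algebraMap κ[X] (L κ) f) = f.eval a := by
  rw [ev, IsLocalization.liftAlgHom_apply, IsLocalization.lift_eq]
  exact congrFun (coe_aeval_eq_eval a) f

theorem h0 : ∀ f ∈ Sub κ, f.eval 0 ≠ 0 := fun _ hf => hf.1
theorem h1 : ∀ f ∈ Sub κ, f.eval 1 ≠ 0 := fun _ hf => hf.2

theorem exists_eq (a : κ) (ha : ∀ f ∈ Sub κ, f.eval a ≠ 0) (c : L κ) (hc : ev a ha c = 0) :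
    ∃ c', c = algebraMap κ[X] (L κ) (X - C a) * c' := by
  obtain ⟨f, s, rfl⟩ := IsLocalization.exists_mk'_eq (Sub κ) c
  have h1 : ev a ha (algebraMap κ[X] (L κ) f) = 0 := by
    rw [← IsLocalization.mk'_spec (L κ) f s, map_mul, hc, zero_mul]
  rw [ev_algebraMap] at h1
  obtain ⟨q, rfl⟩ := dvd_iff_isRoot.2 h1
  exact ⟨IsLocalization.mk' (L κ) q s, by rw [IsLocalization.mul_mk'_eq_mk'_of_mul]⟩

theorem isUnit_of (c : L κ) (hc0 : ev 0 h0 c ≠ 0) (hc1 : ev 1 h1 c ≠ 0) : IsUnit c := by
  obtain ⟨f, s, rfl⟩ := IsLocalization.exists_mk'_eq (Sub κ) c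
  have hf : f ∈ Sub κ := by
    constructor
    · intro h
      apply hc0
      have h2 : ev 0 h0 (IsLocalization.mk' (L κ) f s) * ev 0 h0 (algebraMap κ[X] (L κ) s) = 0 := by
        rw [← map_mul, IsLocalization.mk'_spec, ev_algebraMap, h]
      exact (mul_eq_zero.1 h2).resolve_right (by rw [ev_algebraMap]; exact s.2.1)
    · intro h
      apply hc1
      have h2 : ev 1 h1 (IsLocalization.mk' (L κ) f s) * ev 1 h1 (algebraMap κ[X] (L κ) s) = 0 := by
        rw [← map_mul, IsLocalization.mk'_spec, ev_algebraMap, h]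
      exact (mul_eq_zero.1 h2).resolve_right (by rw [ev_algebraMap]; exact s.2.2)
  exact isUnit_iff_exists_inv.2 ⟨_, IsLocalization.mk'_mul_mk'_eq_one' f s hf⟩

theorem exists_le (M : Ideal (L κ)) (hM : M.IsMaximal) :
    (∀ c, ev 0 h0 c = 0 → c ∈ M) ∨ (∀ c, ev 1 h1 c = 0 → c ∈ M) := by
  have h2 : (M : Set (L κ)) ⊆ (RingHom.ker (ev (κ := κ) 0 h0) : Set (L κ)) ∪ (RingHom.ker (ev (κ := κ) 1 h1) : Set (L κ)) := by
    intro c hc
    by_contra hcon
    rw [Set.mem_union, not_or] at hcon
    exact hM.ne_top (Ideal.eq_top_of_isUnit_mem M hc (isUnit_of c (fun h => hcon.1 h) (fun h => hcon.2 h)))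
  rw [Ideal.subset_union] at h2
  rcases h2 with h2 | h2
  · left
    have := hM.eq_of_le (RingHom.ker_ne_top (ev (κ := κ) 0 h0).toRingHom) h2
    intro c hc
    rw [this]
    exact hc
  · right
    have := hM.eq_of_le (RingHom.ker_ne_top (ev (κ := κ) 1 h1).toRingHom) h2
    intro c hc
    rw [this]
    exact hc

variable [Algebra R κ]

/-- `ev` as a morphism of `R`-algebras. -/
abbrev evR (R : Type u) [CommRing R] [Algebra R κ] (a : κ) (ha : ∀ f ∈ Sub κ, f.eval a ≠ 0) : L κ →ₐ[R] κ :=
  (ev a ha).restrictScalars R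

/-- A unit is joined to `1` by a line. -/
theorem exists_line [Module.Finite R H] [Module.Projective R H] (u : (V R H κ)ˣ) :
    ∃ w : (V R H (L κ))ˣ, umap (evR R 0 h0) w = 1 ∧ umap (evR R 1 h1) w = u := by
  let σ : κ →ₐ[R] L κ := (Algebra.ofId κ (L κ)).restrictScalars R
  let w : V R H (L κ) := cst H (algebraMap κ[X] (L κ) (1 - X)) + cst H (algebraMap κ[X] (L κ) X) * vmap H σ u.1
  have hσ : ∀ (a : κ) (ha : ∀ f ∈ Sub κ, f.eval a ≠ 0), (evR R a ha).comp σ = AlgHom.id R κ := fun a ha => by
    ext c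
    exact (ev a ha).commutes c
  have hw : ∀ (a : κ) (ha : ∀ f ∈ Sub κ, f.eval a ≠ 0), vmap H (evR R a ha) w = cst H (1 - a) + cst H a * u.1 := by
    intro a ha
    have e1 : (evR R a ha) (algebraMap κ[X] (L κ) (1 - X)) = 1 - a := (ev_algebraMap a ha _).trans (by simp)
    have e2 : (evR R a ha) (algebraMap κ[X] (L κ) X) = a := (ev_algebraMap a ha _).trans (by simp)
    have e3 : vmap H (evR R a ha) (vmap H σ u.1) = u.1 := by
      rw [← vmap_comp, hσ]
      rfl
    rw [map_add, map_mul, vmap_cst, vmap_cst, e1, e2, e3]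
  have hw0 : vmap H (evR R (0 : κ) h0) w = 1 := by rw [hw]; simp
  have hw1 : vmap H (evR R (1 : κ) h1) w = u.1 := by rw [hw]; simp
  let a : Bool → κ := fun b => cond b 1 0
  have ha : ∀ b, ∀ f ∈ Sub κ, f.eval (a b) ≠ 0 := fun b => by
    cases b
    · exact h0
    · exact h1
  have hu : IsUnit w := by
    refine isUnit_of_forall (J := Bool) (κ := fun _ => κ) (fun b => evR R (a b) (ha b)) (fun _ => σ)
      (fun b => hσ _ _) (fun b => algebraMap κ[X] (L κ) (X - C (a b))) (fun b => ?_) (fun b => ?_)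
      (fun b c hc => exists_eq _ (ha b) c hc) (fun M hM => ?_) w (fun b => ?_)
    · intro h
      refine X_sub_C_ne_zero (a b) (IsLocalization.injective (L κ) (M := Sub κ) (fun _ hf =>
        mem_nonZeroDivisors_of_ne_zero (ne_zero_of_mem κ hf)) ?_)
      rw [h, map_zero]
    · exact (ev_algebraMap _ (ha b) _).trans (by simp)
    · rcases exists_le M hM with h | h
      · exact ⟨false, h⟩
      · exact ⟨true, h⟩
    · cases b
      · change IsUnit (vmap H (evR R 0 h0) w)
        rw [hw0]
        exact isUnit_one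
      · change IsUnit (vmap H (evR R 1 h1) w)
        rw [hw1]
        exact u.isUnit
  obtain ⟨w', hw'⟩ := hu
  refine ⟨w', Units.ext ?_, Units.ext ?_⟩
  · change vmap H _ w'.1 = 1
    rw [hw', hw0]
  · change vmap H _ w'.1 = u.1
    rw [hw', hw1]

end line

section abs

/-! Idempotents, abstractly. -/

theorem idem_of {k : Type u} [Field k] {A : Type u} [CommRing A] [Algebra k A] (ε : A →ₐ[k] k)
    (h : ∀ (f : A), IsIdempotentElem f → ∀ (p : Ideal A) [p.IsPrime],
    algebraMap A p.ResidueField f = algebraMap k p.ResidueField (ε f)) (e : A) (he : IsIdempotentElem e) :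
    e = 0 ∨ e = 1 := by
  have h0 : ε e = 0 ∨ ε e = 1 := by
    have h2 : ε e * ε e = ε e := by rw [← map_mul, he.eq]
    have h3 : ε e * (ε e - 1) = 0 := by rw [mul_sub, h2, mul_one, sub_self]
    rcases mul_eq_zero.1 h3 with h | h
    · exact Or.inl h
    · exact Or.inr (sub_eq_zero.1 h)
  have key : ∀ (f : A), IsIdempotentElem f → ε f = 0 → f = 0 := by
    intro f hf h'
    have h1 : IsNilpotent f := by
      rw [nilpotent_iff_mem_prime]
      intro p hp
      have h2 := h f hf p
      rw [h', map_zero] at h2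
      exact Ideal.algebraMap_residueField_eq_zero.1 h2
    obtain ⟨n, hn⟩ := h1
    have h2 : f ^ (n + 1) = f := hf.pow_succ_eq n
    rw [← h2, pow_succ, hn, zero_mul]
  rcases h0 with h' | h'
  · exact Or.inl (key e he h')
  · right
    have h1 := key (1 - e) he.one_sub (by rw [map_sub, map_one, h', sub_self])
    exact (sub_eq_zero.1 h1).symm

theorem eq_of_domain {A D κ : Type u} [CommRing A] [CommRing D] [IsDomain D] [CommRing κ] (ψ : A →+* D)
    (e₀ e₁ : D →+* κ) (e : A) (he : IsIdempotentElem e) : e₁ (ψ e) = e₀ (ψ e) := by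
  have h : ψ e = 0 ∨ ψ e = 1 := by
    have h2 : ψ e * ψ e = ψ e := by rw [← map_mul, he.eq]
    have h3 : ψ e * (ψ e - 1) = 0 := by rw [mul_sub, h2, mul_one, sub_self]
    rcases mul_eq_zero.1 h3 with h | h
    · exact Or.inl h
    · exact Or.inr (sub_eq_zero.1 h)
  rcases h with h | h
  · rw [h, map_zero, map_zero]
  · rw [h, map_one, map_one]

/-- Every point of `A` with values in a field is joined to the section `η` by a curve. -/
def Joined (R A : Type u) [CommRing R] [CommRing A] [Algebra R A] (η : A →ₐ[R] R) : Prop :=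
  ∀ (κ : Type u) [Field κ] [Algebra R κ] (x : A →ₐ[R] κ), ∃ (D : Type u) (_ : CommRing D) (_ : IsDomain D)
    (_ : Algebra κ D) (φ : A →+* D) (p₀ p₁ : D →ₐ[κ] κ), (∀ r, φ (algebraMap R A r) = algebraMap κ D (algebraMap R κ r)) ∧
      (∀ a, p₁ (φ a) = x a) ∧ (∀ a, p₀ (φ a) = algebraMap R κ (η a))

variable {A : Type u} [CommRing A] [Algebra R A] (η : A →ₐ[R] R) (k : Type u) [Field k] [Algebra R k]

/-- The section, over `k`. -/
def aug : k ⊗[R] A →ₐ[k] k :=
  Algebra.TensorProduct.lift (AlgHom.id k k) ((Algebra.ofId R k).comp η) (fun _ _ => .all _ _)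

theorem aug_tmul (a : k) (b : A) : aug η k (a ⊗ₜ b) = a * algebraMap R k (η b) := by
  simp [aug, Algebra.ofId_apply]

theorem value_eq (h : Joined R A η) (κ : Type u) [Field κ] [Algebra k κ] [Algebra R κ] [IsScalarTower R k κ]
    (χ : k ⊗[R] A →ₐ[k] κ) (e : k ⊗[R] A) (he : IsIdempotentElem e) : χ e = algebraMap k κ (aug η k e) := by
  obtain ⟨D, _, _, _, φ, p₀, p₁, h1, h2, h3⟩ := h κ
    ((χ.restrictScalars R).comp (Algebra.TensorProduct.includeRight : A →ₐ[R] k ⊗[R] A))
  letI : Algebra k D := ((algebraMap κ D).comp (algebraMap k κ)).toAlgebra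
  letI : Algebra R D := ((algebraMap κ D).comp (algebraMap R κ)).toAlgebra
  have : IsScalarTower R k D := IsScalarTower.of_algebraMap_eq fun r => by
    change algebraMap κ D (algebraMap R κ r) = algebraMap κ D (algebraMap k κ (algebraMap R k r))
    rw [← IsScalarTower.algebraMap_apply R k κ]
  let φ' : A →ₐ[R] D := { φ with commutes' := h1 }
  let ψ : k ⊗[R] A →ₐ[k] D := Algebra.TensorProduct.lift (Algebra.ofId k D) φ' (fun _ _ => .all _ _)
  have hψ : ∀ (a : k) (b : A), ψ (a ⊗ₜ b) = algebraMap κ D (algebraMap k κ a) * φ b := fun a b => by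
    simp only [ψ, Algebra.TensorProduct.lift_tmul, Algebra.ofId_apply]
    rfl
  have e1 : ∀ y, p₁ (ψ y) = χ y := by
    intro y
    induction y using TensorProduct.induction_on with
    | zero => rw [map_zero, map_zero, map_zero]
    | add y z hy hz => rw [map_add, map_add, map_add, hy, hz]
    | tmul a b =>
      have h7 : (a ⊗ₜ[R] b : k ⊗[R] A) = a • ((1 : k) ⊗ₜ b) := by
        rw [TensorProduct.smul_tmul', smul_eq_mul, mul_one]
      have h8 := h2 b
      change p₁ (φ b) = χ ((1 : k) ⊗ₜ[R] b) at h8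
      rw [hψ, map_mul, h8, AlgHom.commutes, h7, map_smul, Algebra.smul_def]
      rfl
  have e0 : ∀ y, p₀ (ψ y) = algebraMap k κ (aug η k y) := by
    intro y
    induction y using TensorProduct.induction_on with
    | zero => rw [map_zero, map_zero, map_zero, map_zero]
    | add y z hy hz => rw [map_add, map_add, map_add, map_add, hy, hz]
    | tmul a b =>
      rw [hψ, map_mul, h3, AlgHom.commutes, aug_tmul, map_mul, ← IsScalarTower.algebraMap_apply R k κ]
      rfl
  rw [← e1, ← e0]
  exact eq_of_domain ψ.toRingHom p₀.toRingHom p₁.toRingHom e he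

theorem conn_of {k A : Type u} [Field k] [CommRing A] [Algebra k A] (ε : A →ₐ[k] k)
    (h : ∀ (κ : Type u) [Field κ] [Algebra k κ] (χ : A →ₐ[k] κ) (e : A), IsIdempotentElem e →
      χ e = algebraMap k κ (ε e)) : ConnectedSpace (PrimeSpectrum A) := by
  have : Nontrivial A := ε.toRingHom.domain_nontrivial
  exact Groth.Agent.Sga3A.GeomConn.connectedSpace_of_idempotents _
    (idem_of ε fun f hf p _ => h p.ResidueField (IsScalarTower.toAlgHom k A p.ResidueField) f hf)

/-- The spectrum is geometrically connected. -/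
theorem Joined.conn {η : A →ₐ[R] R} (h : Joined R A η) : ConnectedSpace (PrimeSpectrum (k ⊗[R] A)) := by
  refine conn_of (aug η k) fun κ _ _ χ e he => ?_
  letI : Algebra R κ := ((algebraMap k κ).comp (algebraMap R k)).toAlgebra
  have : IsScalarTower R k κ := IsScalarTower.of_algebraMap_eq fun _ => rfl
  exact value_eq η k h κ χ e he

open AlgebraicGeometry CategoryTheory Limits in
/-- The fibres are geometrically connected. -/
theorem Joined.geometricallyConnected {η : A →ₐ[R] R} (h : Joined R A η) :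
    GeometricallyConnected (Spec.map (CommRingCat.ofHom (algebraMap R A))) := by
  rw [GeometricallyConnected.eq_geometrically]
  have : ObjectProperty.IsClosedUnderIsomorphisms (fun X : Scheme.{u} => ConnectedSpace X) := inferInstance
  rw [geometrically_iff_of_commRing_of_isClosedUnderIsomorphisms]
  intro k _ _
  have h2 : ConnectedSpace (PrimeSpectrum (k ⊗[R] A)) := h.conn k
  have e : pullback (Spec.map (CommRingCat.ofHom (algebraMap R A))) (Spec.map (CommRingCat.ofHom (algebraMap R k))) ≅
      Spec (CommRingCat.of (k ⊗[R] A)) := pullbackSymmetry _ _ ≪≫ pullbackSpecIso R k A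
  have h3 : ConnectedSpace (Spec (CommRingCat.of (k ⊗[R] A))) := h2
  exact e.hom.homeomorph.connectedSpace_iff.2 h3

end abs

section final

open AlgebraicGeometry CategoryTheory Limits

variable (R H)

theorem joined [Module.Finite R H] [Module.Projective R H] : Joined R (B R H) (ofUnit 1) := by
  intro κ _ _ x
  obtain ⟨w, hw0, hw1⟩ := exists_line (umap x (un R H))
  refine ⟨L κ, inferInstance, inferInstance, inferInstance, (ofUnit w).toRingHom, ev 0 h0, ev 1 h1, ?_, ?_, ?_⟩
  · intro r
    exact (ofUnit w).commutes r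
  · intro a
    have h5 : (evR R (1 : κ) h1).comp (ofUnit w) = x := by
      apply hom_ext
      rw [umap_comp, umap_ofUnit, hw1]
    exact DFunLike.congr_fun h5 a
  · intro a
    have h6 : ∀ {C D : Type u} [CommRing C] [Algebra R C] [CommRing D] [Algebra R D] (φ : C →ₐ[R] D),
      umap (H := H) φ 1 = 1 := fun φ => map_one (umap φ)
    have h5 : (evR R (0 : κ) h0).comp (ofUnit w) = (Algebra.ofId R κ).comp (ofUnit 1) := by
      apply hom_ext
      rw [umap_comp, umap_ofUnit, hw0, umap_comp, umap_ofUnit, h6]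
    exact DFunLike.congr_fun h5 a

/-- The unit group scheme has geometrically connected fibres. -/
theorem geometricallyConnected [Module.Finite R H] [Module.Projective R H] :
    GeometricallyConnected (Spec.map (CommRingCat.ofHom (algebraMap R (B R H)))) :=
  (joined R H).geometricallyConnected

end final

end K834.UnitConn
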